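import Mathlib

/-!
# S4306 design, OUTER part (helper24): shared definitions

`Γ` is a finite ambient group, `G ⊴ Γ` solvable, `A ≤ Γ` non-abelian of order `p q` with
`(|G|, p q) = 1` and `C_G(A) = 1` (`Cfg`).  Goal (`Concl`): a normal subgroup `F ≤ G` of `Γ` with
`F` and `G / F` nilpotent.
-/

set_option autoImplicit false
set_option linter.unusedSectionVars false

namespace Cfsg.Agent.Helper24.FPQO

universe u

/-- the configuration: `G ⊴ Γ` solvable, `A ≤ Γ` non-abelian of order `p q`, coprime,
fixed-point-free -/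
structure Cfg {Γ : Type u} [Group Γ] (G A : Subgroup Γ) (p q : ℕ) : Prop where
  hp : p.Prime
  hq : q.Prime
  hpq : p ≠ q
  normal : G.Normal
  sol : Group.IsSolvable ↥G
  cardA : Nat.card ↥A = p * q
  nonab : ¬ ∀ a ∈ A, ∀ b ∈ A, a * b = b * a
  cop : (Nat.card ↥G).Coprime (p * q)
  fpf : ∀ g ∈ G, (∀ a ∈ A, a * g = g * a) → g = 1

/-- the conclusion: a normal subgroup `F ≤ G` of `Γ` with `F` and `G / F` nilpotent -/
def Concl {Γ : Type u} [Group Γ] (G : Subgroup Γ) : Prop :=
  ∃ F : Subgroup Γ, ∃ _hF : F.Normal, F ≤ G ∧ Group.IsNilpotent ↥F ∧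
    Group.IsNilpotent (↥G ⧸ F.subgroupOf G)

/-- a quotient `G / K` is nilpotent as soon as some homomorphism from `G` to a nilpotent group has
kernel inside `K` -/
theorem isNilpotent_quotient_of_hom {G : Type*} [Group G] (K : Subgroup G) [K.Normal]
    {N : Type*} [Group N] [Group.IsNilpotent N] (φ : G →* N) (h : φ.ker ≤ K) :
    Group.IsNilpotent (G ⧸ K) := by
  haveI : Group.IsNilpotent ↥φ.range := inferInstance
  haveI : Group.IsNilpotent (G ⧸ φ.ker) :=
    Group.nilpotent_of_mulEquiv (QuotientGroup.quotientKerEquivRange φ).symm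
  let f : G ⧸ φ.ker →* G ⧸ K := QuotientGroup.map φ.ker K (MonoidHom.id G) (by
    intro x hx
    exact h hx)
  have hf : Function.Surjective f := by
    intro y
    obtain ⟨g, rfl⟩ := QuotientGroup.mk_surjective y
    exact ⟨QuotientGroup.mk g, rfl⟩
  exact Group.nilpotent_of_surjective f hf

/-- a group embedding into a nilpotent group is nilpotent -/
theorem isNilpotent_of_injective_hom {G : Type*} [Group G] {N : Type*} [Group N]
    [Group.IsNilpotent N] (φ : G →* N) (h : Function.Injective φ) : Group.IsNilpotent G := by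
  apply Subgroup.isNilpotent_of_ker_le_center φ
  rw [(MonoidHom.ker_eq_bot_iff φ).mpr h]
  exact bot_le

end Cfsg.Agent.Helper24.FPQO
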