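import Mathlib
import Cfsg.Agent.Lib.FPQO.FPQODefs

/-! S4306 OUTER piece FPQO-MINV (helper24 design; see plans/S4306_outer_plan.md). Proof by helper19. -/

set_option autoImplicit false
set_option linter.unusedSectionVars false

namespace Cfsg.Agent.Helper24.FPQO

universe u

variable {Γ : Type u} [Group Γ]

/-- existence of a minimal normal subgroup inside a nontrivial normal subgroup -/
theorem fpqo_minv_exists_minimal [Finite Γ] (L : Subgroup Γ) (hLn : L.Normal) (hL : L ≠ ⊥) :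
    ∃ V : Subgroup Γ, V.Normal ∧ V ≠ ⊥ ∧ V ≤ L ∧
      ∀ W : Subgroup Γ, W.Normal → W ≤ V → W = ⊥ ∨ W = V := by
  induction hn : Nat.card L using Nat.strong_induction_on generalizing L with
  | _ n ih =>
    by_cases hmin : ∀ W : Subgroup Γ, W.Normal → W ≤ L → W = ⊥ ∨ W = L
    · exact ⟨L, hLn, hL, le_rfl, hmin⟩
    · push Not at hmin
      obtain ⟨W, hWn, hWL, hW0, hW1⟩ := hmin
      have hlt : Nat.card W < n := by
        rw [← hn]
        by_contra hc
        push Not at hc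
        exact hW1 (Subgroup.eq_of_le_of_card_ge hWL hc)
      obtain ⟨V, hVn, hV0, hVW, hVmin⟩ := ih _ hlt W hWn hW0 rfl
      exact ⟨V, hVn, hV0, hVW.trans hWL, hVmin⟩

/-- a minimal normal subgroup inside a solvable normal subgroup is abelian -/
theorem fpqo_minv_abelian (G : Subgroup Γ) (hsol : Group.IsSolvable ↥G)
    (V : Subgroup Γ) (hVn : V.Normal) (hVG : V ≤ G) (hV : V ≠ ⊥)
    (hmin : ∀ M : Subgroup Γ, M.Normal → M ≤ V → M = ⊥ ∨ M = V) :
    ∀ x ∈ V, ∀ y ∈ V, x * y = y * x := by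
  have hle : ⁅V, V⁆ ≤ V := Subgroup.commutator_le_left V V
  have hcn : (⁅V, V⁆).Normal := Subgroup.commutator_normal V V
  rcases hmin ⁅V, V⁆ hcn hle with h | h
  · intro a ha b hb
    have h1 := (Subgroup.commutator_eq_bot_iff_le_centralizer.mp h) ha
    exact (Subgroup.mem_centralizer_iff.mp h1 b hb).symm
  · exfalso
    have hder : ∀ n, V ≤ (derivedSeries ↥G n).map G.subtype := by
      intro n
      induction n with
      | zero =>
        intro x hx
        exact ⟨⟨x, hVG hx⟩, Subgroup.mem_top _, rfl⟩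
      | succ n ih =>
        rw [derivedSeries_succ, Subgroup.map_commutator]
        calc V = ⁅V, V⁆ := h.symm
          _ ≤ _ := Subgroup.commutator_mono ih ih
    obtain ⟨n, hn⟩ := (Group.isSolvable_def ↥G).mp hsol
    have h1 := hder n
    rw [hn, Subgroup.map_bot] at h1
    exact hV (le_bot_iff.mp h1)

/-- a minimal normal subgroup of `Γ` inside the solvable normal subgroup `G ≠ 1` is elementary
abelian -/
theorem exists_min_normal_elem [Finite Γ] (G : Subgroup Γ) [G.Normal] (hsol : Group.IsSolvable ↥G)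
    (hG : G ≠ ⊥) :
    ∃ (V : Subgroup Γ) (r : ℕ), r.Prime ∧ V.Normal ∧ V ≤ G ∧ V ≠ ⊥ ∧
      (∀ x ∈ V, ∀ y ∈ V, x * y = y * x) ∧ (∀ x ∈ V, x ^ r = 1) ∧
      ∀ M : Subgroup Γ, M.Normal → M ≤ V → M = ⊥ ∨ M = V := by
  obtain ⟨V, hVn, hV0, hVG, hVmin⟩ := fpqo_minv_exists_minimal G inferInstance hG
  have hab := fpqo_minv_abelian G hsol V hVn hVG hV0 hVmin
  have hcard : Nat.card ↥V ≠ 1 := by
    intro h
    exact hV0 (Subgroup.card_eq_one.1 h)
  obtain ⟨r, hr, hrdvd⟩ := Nat.exists_prime_and_dvd hcard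
  have hrf : Fact r.Prime := ⟨hr⟩
  obtain ⟨x0, hx0⟩ := exists_prime_orderOf_dvd_card' r hrdvd
  -- the subgroup of elements of V killed by r
  let M : Subgroup Γ :=
    { carrier := {x | x ∈ V ∧ x ^ r = 1}
      one_mem' := ⟨V.one_mem, one_pow r⟩
      mul_mem' := by
        rintro a b ⟨ha, ha1⟩ ⟨hb, hb1⟩
        refine ⟨V.mul_mem ha hb, ?_⟩
        have hc : Commute a b := hab a ha b hb
        rw [hc.mul_pow, ha1, hb1, one_mul]
      inv_mem' := by
        rintro a ⟨ha, ha1⟩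
        exact ⟨V.inv_mem ha, by rw [inv_pow, ha1, inv_one]⟩ }
  have hMmem : ∀ x, x ∈ M ↔ x ∈ V ∧ x ^ r = 1 := fun x => Iff.rfl
  have hMn : M.Normal := by
    constructor
    intro n hn g
    rw [hMmem] at hn ⊢
    refine ⟨hVn.conj_mem n hn.1 g, ?_⟩
    rw [conj_pow, hn.2, mul_one, mul_inv_cancel]
  have hMV : M ≤ V := fun x hx => ((hMmem x).1 hx).1
  have hMne : M ≠ ⊥ := by
    intro h
    have hx0M : (x0 : Γ) ∈ M := by
      rw [hMmem]
      refine ⟨x0.2, ?_⟩
      have h1 : x0 ^ r = 1 := by rw [← hx0]; exact pow_orderOf_eq_one x0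
      have h2 := congrArg Subtype.val h1
      simpa using h2
    rw [h, Subgroup.mem_bot] at hx0M
    have h3 : x0 = 1 := Subtype.ext hx0M
    rw [h3, orderOf_one] at hx0
    exact hr.one_lt.ne hx0
  rcases hVmin M hMn hMV with h | h
  · exact absurd h hMne
  · refine ⟨V, r, hr, hVn, hVG, hV0, hab, ?_, hVmin⟩
    intro x hx
    rw [← h] at hx
    exact ((hMmem x).1 hx).2

end Cfsg.Agent.Helper24.FPQO
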