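import Mathlib
import Cfsg.Agent.Lib.FPQO.FPQODefs

/-! S4306 OUTER piece FPQO-PQ (helper24 design; see plans/S4306_outer_plan.md), implemented by helper11.
Structure of a non-abelian group of order `p q`. -/

set_option autoImplicit false
set_option linter.unusedSectionVars false

namespace Cfsg.Agent.Helper24.FPQO

universe u

variable {Γ : Type u} [Group Γ]

/-- a subgroup of prime order is generated by each of its non-trivial elements -/
theorem fpqo_pq_zpowers_eq {G : Type*} [Group G] [Finite G] {r : ℕ} (hr : r.Prime) (F : Subgroup G)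
    (hF : Nat.card ↥F = r) (f : G) (hf : f ∈ F) (hf1 : f ≠ 1) : Subgroup.zpowers f = F := by
  have hle : Subgroup.zpowers f ≤ F := by
    rw [Subgroup.zpowers_le]; exact hf
  apply Subgroup.eq_of_le_of_card_ge hle
  have hdvd : Nat.card ↥(Subgroup.zpowers f) ∣ r := by
    rw [← hF]; exact Subgroup.card_dvd_of_le hle
  rcases (Nat.dvd_prime hr).mp hdvd with h1 | h1
  · exfalso
    apply hf1
    rw [Nat.card_zpowers] at h1
    exact orderOf_eq_one_iff.mp h1
  · rw [hF, h1]

/-- a group of order `r s`, `s < r` primes -/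
theorem fpqo_pq_core {G : Type*} [Group G] [Finite G] {r s : ℕ} (hr : r.Prime) (hs : s.Prime)
    (hsr : s < r) (hG : Nat.card G = r * s) :
    ∃ F H : Subgroup G, Nat.card ↥F = r ∧ Nat.card ↥H = s ∧ F.Normal ∧ F ⊔ H = ⊤ ∧
      ((¬ ∀ a b : G, a * b = b * a) → ∀ f ∈ F, ∀ h ∈ H, f * h = h * f → f = 1 ∨ h = 1) := by
  haveI : Fact r.Prime := ⟨hr⟩
  haveI : Fact s.Prime := ⟨hs⟩
  obtain ⟨f0, hf0⟩ := exists_prime_orderOf_dvd_card' (G := G) r (by rw [hG]; exact dvd_mul_right r s)
  obtain ⟨h0, hh0⟩ := exists_prime_orderOf_dvd_card' (G := G) s (by rw [hG]; exact dvd_mul_left s r)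
  set F : Subgroup G := Subgroup.zpowers f0 with hFdef
  set H : Subgroup G := Subgroup.zpowers h0 with hHdef
  have hF : Nat.card ↥F = r := by rw [hFdef, Nat.card_zpowers, hf0]
  have hH : Nat.card ↥H = s := by rw [hHdef, Nat.card_zpowers, hh0]
  have hmin : (Nat.card G).minFac = s := by
    rw [hG]
    have h1 : (r * s).minFac ∣ r * s := Nat.minFac_dvd _
    have hne : r * s ≠ 1 := by
      have := hr.two_le; have := hs.two_le; nlinarith
    have hpr : (r * s).minFac.Prime := Nat.minFac_prime hne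
    have h2 : (r * s).minFac ≤ s := Nat.minFac_le_of_dvd hs.two_le (dvd_mul_left s r)
    rcases (Nat.Prime.dvd_mul hpr).mp h1 with h3 | h3
    · have h4 := (Nat.prime_dvd_prime_iff_eq hpr hr).mp h3
      omega
    · exact (Nat.prime_dvd_prime_iff_eq hpr hs).mp h3
  have hFidx : F.index = s := by
    have h1 := F.card_mul_index
    rw [hF, hG] at h1
    exact Nat.eq_of_mul_eq_mul_left hr.pos h1
  have hFn : F.Normal := Subgroup.normal_of_index_eq_minFac_card (by rw [hFidx, hmin])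
  have hsup : F ⊔ H = ⊤ := by
    apply Subgroup.eq_top_of_le_card
    have h1 : r ∣ Nat.card ↥(F ⊔ H) := by
      rw [← hF]; exact Subgroup.card_dvd_of_le le_sup_left
    have h2 : s ∣ Nat.card ↥(F ⊔ H) := by
      rw [← hH]; exact Subgroup.card_dvd_of_le le_sup_right
    have hcop : Nat.Coprime r s := (Nat.coprime_primes hr hs).mpr (by omega)
    have h3 : r * s ∣ Nat.card ↥(F ⊔ H) := hcop.mul_dvd_of_dvd_of_dvd h1 h2
    rw [hG]
    exact Nat.le_of_dvd Nat.card_pos h3
  refine ⟨F, H, hF, hH, hFn, hsup, ?_⟩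
  intro hna f hf h hh hcomm
  by_contra hcon
  push_neg at hcon
  obtain ⟨hf1, hh1⟩ := hcon
  apply hna
  have hFz : Subgroup.zpowers f = F := fpqo_pq_zpowers_eq hr F hF f hf hf1
  have hHz : Subgroup.zpowers h = H := fpqo_pq_zpowers_eq hs H hH h hh hh1
  have hfc : f ∈ Subgroup.center G := by
    have h1 : F ⊔ H ≤ Subgroup.centralizer {f} := by
      apply sup_le
      · rw [← hFz, Subgroup.zpowers_le]
        exact Subgroup.mem_centralizer_singleton_iff.mpr rfl
      · rw [← hHz, Subgroup.zpowers_le]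
        exact Subgroup.mem_centralizer_singleton_iff.mpr hcomm.symm
    rw [hsup] at h1
    rw [Subgroup.mem_center_iff]
    intro g
    have h2 := h1 (Subgroup.mem_top g)
    exact (Subgroup.mem_centralizer_singleton_iff.mp h2)
  have hhc : h ∈ Subgroup.center G := by
    have h1 : F ⊔ H ≤ Subgroup.centralizer {h} := by
      apply sup_le
      · rw [← hFz, Subgroup.zpowers_le]
        exact Subgroup.mem_centralizer_singleton_iff.mpr hcomm
      · rw [← hHz, Subgroup.zpowers_le]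
        exact Subgroup.mem_centralizer_singleton_iff.mpr rfl
    rw [hsup] at h1
    rw [Subgroup.mem_center_iff]
    intro g
    have h2 := h1 (Subgroup.mem_top g)
    exact (Subgroup.mem_centralizer_singleton_iff.mp h2)
  have hcen : Subgroup.center G = ⊤ := by
    apply top_le_iff.mp
    rw [← hsup]
    apply sup_le
    · rw [← hFz, Subgroup.zpowers_le]; exact hfc
    · rw [← hHz, Subgroup.zpowers_le]; exact hhc
  intro a b
  have ha : b ∈ Subgroup.center G := by rw [hcen]; exact Subgroup.mem_top b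
  exact (Subgroup.mem_center_iff.mp ha a)

/-- transfer of the core lemma to a subgroup `A` of `Γ` -/
theorem fpqo_pq_transfer [Finite Γ] (A : Subgroup Γ) {r s : ℕ} (hr : r.Prime) (hs : s.Prime)
    (hsr : s < r) (hA : Nat.card ↥A = r * s) (hna : ¬ ∀ a ∈ A, ∀ b ∈ A, a * b = b * a) :
    ∃ (F H : Subgroup Γ), F ≤ A ∧ H ≤ A ∧
      Nat.card ↥F = r ∧ Nat.card ↥H = s ∧ H ≤ Subgroup.normalizer (F : Set Γ) ∧
      (∀ f ∈ F, ∀ h ∈ H, f * h = h * f → f = 1 ∨ h = 1) ∧ F ⊔ H = A := by
  obtain ⟨F, H, hF, hH, hFn, hsup, hfrob⟩ := fpqo_pq_core (G := ↥A) hr hs hsr hA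
  have hna' : ¬ ∀ a b : ↥A, a * b = b * a := by
    intro h
    apply hna
    intro a ha b hb
    have := h ⟨a, ha⟩ ⟨b, hb⟩
    exact congrArg Subtype.val this
  have hinj : Function.Injective A.subtype := A.subtype_injective
  have hFA : F.map A.subtype ≤ A := Subgroup.map_subtype_le F
  have hHA : H.map A.subtype ≤ A := Subgroup.map_subtype_le H
  have hnorm : ∀ a ∈ A, ∀ n ∈ F.map A.subtype, a * n * a⁻¹ ∈ F.map A.subtype := by
    rintro a ha _ ⟨n, hn, rfl⟩
    refine ⟨⟨a, ha⟩ * n * ⟨a, ha⟩⁻¹, hFn.conj_mem n hn ⟨a, ha⟩, ?_⟩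
    simp
  refine ⟨F.map A.subtype, H.map A.subtype, hFA, hHA, ?_, ?_, ?_, ?_, ?_⟩
  · rw [Subgroup.card_map_of_injective hinj, hF]
  · rw [Subgroup.card_map_of_injective hinj, hH]
  · intro h hh
    have hhA : h ∈ A := hHA hh
    rw [Subgroup.mem_normalizer_iff]
    intro n
    constructor
    · intro hn
      exact hnorm h hhA n hn
    · intro hn
      have h1 := hnorm h⁻¹ (A.inv_mem hhA) _ hn
      have h2 : h⁻¹ * (h * n * h⁻¹) * h⁻¹⁻¹ = n := by group
      rw [h2] at h1
      exact h1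
  · rintro _ ⟨f, hf, rfl⟩ _ ⟨h, hh, rfl⟩ hcomm
    have hc : f * h = h * f := by
      apply hinj
      rw [map_mul, map_mul]
      exact hcomm
    rcases hfrob hna' f hf h hh hc with h1 | h1
    · left; rw [h1, map_one]
    · right; rw [h1, map_one]
  · rw [← Subgroup.map_sup, hsup, ← MonoidHom.range_eq_map, Subgroup.range_subtype]

/-- structure of a non-abelian group of order `p q`: a normal subgroup `F` of prime order `p'` and a
subgroup `H` of prime order `q'`, `{p', q'} = {p, q}`, `A = F H`, no non-trivial element of `H`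
commutes with a non-trivial element of `F`. -/
theorem exists_frob_pair [Finite Γ] (A : Subgroup Γ) {p q : ℕ} (hp : p.Prime) (hq : q.Prime)
    (hpq : p ≠ q) (hA : Nat.card ↥A = p * q) (hna : ¬ ∀ a ∈ A, ∀ b ∈ A, a * b = b * a) :
    ∃ (p' q' : ℕ) (F H : Subgroup Γ), ((p' = p ∧ q' = q) ∨ (p' = q ∧ q' = p)) ∧ F ≤ A ∧ H ≤ A ∧
      Nat.card ↥F = p' ∧ Nat.card ↥H = q' ∧ H ≤ Subgroup.normalizer (F : Set Γ) ∧
      (∀ f ∈ F, ∀ h ∈ H, f * h = h * f → f = 1 ∨ h = 1) ∧ F ⊔ H = A := by
  rcases lt_or_gt_of_ne hpq with hlt | hlt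
  · obtain ⟨F, H, h1, h2, h3, h4, h5, h6, h7⟩ :=
      fpqo_pq_transfer A hq hp hlt (by rw [hA, mul_comm]) hna
    exact ⟨q, p, F, H, Or.inr ⟨rfl, rfl⟩, h1, h2, h3, h4, h5, h6, h7⟩
  · obtain ⟨F, H, h1, h2, h3, h4, h5, h6, h7⟩ :=
      fpqo_pq_transfer A hp hq hlt hA hna
    exact ⟨p, q, F, H, Or.inl ⟨rfl, rfl⟩, h1, h2, h3, h4, h5, h6, h7⟩

end Cfsg.Agent.Helper24.FPQO
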