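import Mathlib
import Cfsg.Agent.Lib.FPQO.FPQODefs
import Cfsg.Agent.Lib.FPQ.FPQMain
import Cfsg.Agent.Lib.FPQO.FPQOPQ
/-! S4306 OUTER piece FPQO-LAPP (helper24 design; see plans/S4306_outer_plan.md). Proof by helper19. -/

set_option autoImplicit false
set_option linter.unusedSectionVars false

namespace Cfsg.Agent.Helper24.FPQO

universe u

variable {Γ : Type u} [Group Γ]

open Cfsg.Agent.Helper8.FrobLin

/-- an `s`-subgroup of `G` is trivial when `s` divides `p q` (coprime to `|G|`) -/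
theorem fpqo_lapp_eq_bot [Finite Γ] {G : Subgroup Γ} {p q s : ℕ}
    (hcop : (Nat.card ↥G).Coprime (p * q)) (hs : s.Prime) (hsdvd : s ∣ p * q)
    (Q : Subgroup Γ) (hQG : Q ≤ G) (hQs : IsPGroup s ↥Q) : Q = ⊥ := by
  have hsf : Fact s.Prime := ⟨hs⟩
  obtain ⟨n, hn⟩ := (IsPGroup.iff_card).1 hQs
  rcases Nat.eq_zero_or_pos n with h0 | h0
  · rw [h0, pow_zero] at hn
    exact Subgroup.card_eq_one.1 hn
  · exfalso
    have h1 : s ∣ Nat.card ↥Q := by rw [hn]; exact dvd_pow_self s h0.ne'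
    have h2 : s ∣ Nat.card ↥G := h1.trans (Subgroup.card_dvd_of_le hQG)
    have h3 : s ∣ 1 := by
      have := Nat.dvd_gcd h2 hsdvd
      rwa [Nat.Coprime.gcd_eq_one hcop] at this
    exact hs.one_lt.ne' (Nat.dvd_one.1 h3)

/-- the stabiliser of a vector as a subgroup -/
def fpqo_lapp_stab {k : Type*} [Field k] {W : Type*} [AddCommGroup W] [Module k W]
    (ρ : Representation k Γ W) (v : W) : Subgroup Γ where
  carrier := {g | ρ g v = v}
  one_mem' := by simp
  mul_mem' := by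
    intro a b ha hb
    show ρ (a * b) v = v
    rw [map_mul, Module.End.mul_apply]
    change ρ a v = v at ha
    change ρ b v = v at hb
    rw [hb, ha]
  inv_mem' := by
    intro a ha
    change ρ a v = v at ha
    show ρ a⁻¹ v = v
    have h1 : ρ a⁻¹ (ρ a v) = v := by
      rw [← Module.End.mul_apply, ← map_mul, inv_mul_cancel, map_one, Module.End.one_apply]
    rwa [ha] at h1

theorem fpqo_lapp_mem_stab {k : Type*} [Field k] {W : Type*} [AddCommGroup W] [Module k W]
    (ρ : Representation k Γ W) (v : W) (g : Γ) : g ∈ fpqo_lapp_stab ρ v ↔ ρ g v = v := Iff.rfl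

/-- application of Theorem L (`Cfsg.Agent.Helper4.FPQ.thmL`) in a faithful representation in
characteristic `r`: a normal `s`-subgroup `Q` of `Γ` inside `G` (`s ≠ r`) commutes elementwise with
every `A`-invariant `t`-subgroup `R` of `G` (`t ≠ s`). -/
theorem comm_of_thmL [Finite Γ] {G A : Subgroup Γ} {p q : ℕ} (cfg : Cfg G A p q)
    {k : Type*} [Field k] [IsAlgClosed k] (r : ℕ) [Fact r.Prime] [CharP k r] (hrp : r ≠ p)
    (hrq : r ≠ q) {W : Type*} [AddCommGroup W] [Module k W] [FiniteDimensional k W]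
    (ρ : Representation k Γ W) (hinj : ∀ g ∈ G, ρ g = 1 → g = 1) (hfix : fixedBy ρ A = ⊥)
    (s t : ℕ) (hs : s.Prime) (ht : t.Prime) (hst : s ≠ t) (hsr : s ≠ r)
    (Q R : Subgroup Γ) (hQn : Q.Normal) (hQG : Q ≤ G) (hQs : IsPGroup s ↥Q) (hRG : R ≤ G)
    (hRt : IsPGroup t ↥R) (hAR : A ≤ Subgroup.normalizer (R : Set Γ)) :
    ∀ x ∈ Q, ∀ y ∈ R, x * y = y * x := by
  have hr : r.Prime := Fact.out
  by_cases hsd : s ∣ p * q
  · have hQ := fpqo_lapp_eq_bot cfg.cop hs hsd Q hQG hQs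
    intro x hx y _
    rw [hQ, Subgroup.mem_bot] at hx
    rw [hx, one_mul, mul_one]
  by_cases htd : t ∣ p * q
  · have hR := fpqo_lapp_eq_bot cfg.cop ht htd R hRG hRt
    intro x _ y hy
    rw [hR, Subgroup.mem_bot] at hy
    rw [hy, one_mul, mul_one]
  have hsp : s ≠ p := fun h => hsd (h ▸ Dvd.intro _ rfl)
  have hsq : s ≠ q := fun h => hsd (h ▸ Dvd.intro_left _ rfl)
  have htp : t ≠ p := fun h => htd (h ▸ Dvd.intro _ rfl)
  have htq : t ≠ q := fun h => htd (h ▸ Dvd.intro_left _ rfl)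
  obtain ⟨p', q', F, H, hor, hFA, hHA, hcF, hcH, hHF, hfrob, hsup⟩ :=
    exists_frob_pair A cfg.hp cfg.hq cfg.hpq cfg.cardA cfg.nonab
  have hp' : p'.Prime := by
    rcases hor with ⟨h1, _⟩ | ⟨h1, _⟩
    · rw [h1]; exact cfg.hp
    · rw [h1]; exact cfg.hq
  have hq' : q'.Prime := by
    rcases hor with ⟨_, h1⟩ | ⟨_, h1⟩
    · rw [h1]; exact cfg.hq
    · rw [h1]; exact cfg.hp
  have hpq' : p' ≠ q' := by
    rcases hor with ⟨h1, h2⟩ | ⟨h1, h2⟩
    · rw [h1, h2]; exact cfg.hpq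
    · rw [h1, h2]; exact cfg.hpq.symm
  have hsp' : s ≠ p' := by
    rcases hor with ⟨h1, _⟩ | ⟨h1, _⟩
    · rw [h1]; exact hsp
    · rw [h1]; exact hsq
  have hsq' : s ≠ q' := by
    rcases hor with ⟨_, h1⟩ | ⟨_, h1⟩
    · rw [h1]; exact hsq
    · rw [h1]; exact hsp
  have htp' : t ≠ p' := by
    rcases hor with ⟨h1, _⟩ | ⟨h1, _⟩
    · rw [h1]; exact htp
    · rw [h1]; exact htq
  have htq' : t ≠ q' := by
    rcases hor with ⟨_, h1⟩ | ⟨_, h1⟩
    · rw [h1]; exact htq
    · rw [h1]; exact htp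
  have hrp' : r ≠ p' := by
    rcases hor with ⟨h1, _⟩ | ⟨h1, _⟩
    · rw [h1]; exact hrp
    · rw [h1]; exact hrq
  have hrq' : r ≠ q' := by
    rcases hor with ⟨_, h1⟩ | ⟨_, h1⟩
    · rw [h1]; exact hrq
    · rw [h1]; exact hrp
  have hcast : ∀ n : ℕ, n.Prime → r ≠ n → (n : k) ≠ 0 := by
    intro n hn hrn h
    have h1 : r ∣ n := (CharP.cast_eq_zero_iff k r n).1 h
    exact hrn ((Nat.prime_dvd_prime_iff_eq hr hn).1 h1)
  have hQtop : Subgroup.normalizer (Q : Set Γ) = ⊤ := Subgroup.normalizer_eq_top_iff.2 hQn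
  have hfpf : ∀ g ∈ G, (∀ f ∈ F, f * g = g * f) → (∀ h ∈ H, h * g = g * h) → g = 1 := by
    intro g hg hF hH
    apply cfg.fpf g hg
    intro a ha
    have hle : F ⊔ H ≤ Subgroup.centralizer ({g} : Set Γ) := by
      apply sup_le
      · intro f hf
        exact Subgroup.mem_centralizer_singleton_iff.2 (hF f hf)
      · intro h hh
        exact Subgroup.mem_centralizer_singleton_iff.2 (hH h hh)
    rw [hsup] at hle
    exact Subgroup.mem_centralizer_singleton_iff.1 (hle ha)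
  have hyp : Cfsg.Agent.Helper4.FPQ.Hyp ρ F H Q R p' q' s t :=
    { hp := hp'
      hq := hq'
      hs := hs
      ht := ht
      hpq := hpq'
      hst := hst
      hsp := hsp'
      hsq := hsq'
      htp := htp'
      htq := htq'
      cardF := hcF
      cardH := hcH
      HF := hHF
      frob := hfrob
      Qs := hQs
      Rt := hRt
      FQ := by rw [hQtop]; exact le_top
      HQ := by rw [hQtop]; exact le_top
      FR := hFA.trans hAR
      HR := hHA.trans hAR
      RQ := by rw [hQtop]; exact le_top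
      cQ := fun g hg => hfpf g (hQG hg)
      cR := fun g hg => hfpf g (hRG hg)
      pk := hcast p' hp' hrp'
      qk := hcast q' hq' hrq'
      sk := hcast s hs hsr.symm
      fix := by
        rw [eq_bot_iff]
        intro v hv
        rw [Submodule.mem_inf, mem_fixedBy, mem_fixedBy] at hv
        rw [← hfix, mem_fixedBy]
        have hle : F ⊔ H ≤ fpqo_lapp_stab ρ v := by
          apply sup_le
          · intro f hf
            exact (fpqo_lapp_mem_stab ρ v f).2 (hv.1 f hf)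
          · intro h hh
            exact (fpqo_lapp_mem_stab ρ v h).2 (hv.2 h hh)
        rw [hsup] at hle
        intro a ha
        exact (fpqo_lapp_mem_stab ρ v a).1 (hle ha) }
  intro x hx y hy
  have hcomm := Cfsg.Agent.Helper4.FPQ.thmL ρ F H Q R hyp x hx y hy
  have h1 : ρ (x * y) = ρ (y * x) := by rw [map_mul, map_mul, hcomm]
  have h2 : ρ ((x * y) * (y * x)⁻¹) = 1 := by
    rw [map_mul, h1, ← map_mul, mul_inv_cancel, map_one]
  have hmem : (x * y) * (y * x)⁻¹ ∈ G :=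
    G.mul_mem (G.mul_mem (hQG hx) (hRG hy)) (G.inv_mem (G.mul_mem (hRG hy) (hQG hx)))
  have h3 := hinj _ hmem h2
  exact mul_inv_eq_one.1 h3

end Cfsg.Agent.Helper24.FPQO
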