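import Mathlib
import Cfsg.Agent.Lib.FPQO.FPQODefs

/-! S4306 OUTER piece FPQO-SN (helper24 design; see plans/S4306_outer_plan.md), proved by helper12. -/

set_option autoImplicit false
set_option linter.unusedSectionVars false

namespace Cfsg.Agent.Helper24.FPQO

universe u

variable {Γ : Type u} [Group Γ]

/-- a Sylow subgroup normalised by a normal subgroup `E` with `G / E` nilpotent is normal
(`N_G(R) ≥ E`, `N_G(N_G(R)) = N_G(R)` and the normaliser condition in `G / E`). -/
theorem sylow_normal_of_le_normalizer {G : Type*} [Group G] [Finite G] (E : Subgroup G) [E.Normal]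
    (hGE : Group.IsNilpotent (G ⧸ E)) {t : ℕ} [Fact t.Prime] (R : Sylow t G)
    (hER : E ≤ Subgroup.normalizer ((R : Subgroup G) : Set G)) : (R : Subgroup G).Normal := by
  set N : Subgroup G := Subgroup.normalizer ((R : Subgroup G) : Set G) with hN
  have hNN : Subgroup.normalizer (N : Set G) = N := Sylow.normalizer_normalizer R
  have hsurj : Function.Surjective (QuotientGroup.mk' E) := QuotientGroup.mk'_surjective E
  set H : Subgroup (G ⧸ E) := N.map (QuotientGroup.mk' E) with hH
  have hcomap : H.comap (QuotientGroup.mk' E) = N := by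
    rw [hH, Subgroup.comap_map_eq, QuotientGroup.ker_mk']
    exact sup_eq_left.2 hER
  have hnorm : (Subgroup.normalizer (H : Set (G ⧸ E))).comap (QuotientGroup.mk' E) = N := by
    have h1 := Subgroup.comap_normalizer_eq_of_surjective H (f := QuotientGroup.mk' E) hsurj
    rw [h1]
    have h2 : ((H.comap (QuotientGroup.mk' E) : Subgroup G) : Set G) = (N : Set G) := by
      rw [hcomap]
    have h3 : Subgroup.normalizer ((H.comap (QuotientGroup.mk' E) : Subgroup G) : Set G) =
        Subgroup.normalizer (N : Set G) := by
      rw [hcomap]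
    rw [h3, hNN]
  have hHtop : H = ⊤ := by
    by_contra hne
    have hlt : H < Subgroup.normalizer (H : Set (G ⧸ E)) :=
      Group.normalizerCondition_of_isNilpotent H (lt_top_iff_ne_top.2 hne)
    have hlt' := Subgroup.comap_lt_comap_of_surjective hsurj |>.2 hlt
    rw [hcomap, hnorm] at hlt'
    exact lt_irrefl _ hlt'
  have hNtop : N = ⊤ := by
    rw [← hcomap, hHtop, Subgroup.comap_top]
  exact Subgroup.normalizer_eq_top_iff.1 hNtop

end Cfsg.Agent.Helper24.FPQO
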