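import Mathlib
import Cfsg.Agent.Lib.FPQO.FPQODefs
import Cfsg.Agent.Lib.FPQO.FPQOSN
/-! S4306 OUTER piece FPQO-NC (helper24 design; see plans/S4306_outer_plan.md): nilpotency of `G`
from nilpotency of `E`, `G / E` and the commuting condition on Sylow subgroups.  (helper9) -/

set_option autoImplicit false
set_option linter.unusedSectionVars false

namespace Cfsg.Agent.Helper24.FPQO

universe u

variable {Γ : Type u} [Group Γ]

/-- a subgroup of a finite group containing a Sylow `s`-subgroup for every prime `s` is everything -/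
theorem fpqo_nc_eq_top_of_sylow_le {E : Type*} [Group E] [Finite E] (M : Subgroup E)
    (hM : ∀ (s : ℕ) [Fact s.Prime], ∃ S : Sylow s E, (S : Subgroup E) ≤ M) : M = ⊤ := by
  rw [← Subgroup.index_eq_one, Nat.eq_one_iff_not_exists_prime_dvd]
  intro s hs hdvd
  haveI : Fact s.Prime := ⟨hs⟩
  obtain ⟨S, hS⟩ := hM s
  exact S.not_dvd_index (hdvd.trans (Subgroup.index_dvd_of_le hS))

/-- `E ⊴ Γ` nilpotent inside `G ⊴ Γ` with `G / E` nilpotent; if for every prime `t` some Sylow
`t`-subgroup of `G` commutes elementwise with every normal `s`-subgroup of `Γ` inside `E`, for all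
primes `s ≠ t`, then `G` is nilpotent. -/
theorem nilpotent_of_sylow_centralize [Finite Γ] (G E : Subgroup Γ) [G.Normal] [E.Normal]
    (hEG : E ≤ G) (hE : Group.IsNilpotent ↥E)
    (hGE : Group.IsNilpotent (↥G ⧸ E.subgroupOf G))
    (h : ∀ (t : ℕ) [Fact t.Prime], ∃ R : Sylow t ↥G, ∀ s : ℕ, s.Prime → s ≠ t →
      ∀ Q : Subgroup Γ, Q.Normal → Q ≤ E → IsPGroup s ↥Q →
        ∀ x ∈ Q, ∀ y : ↥G, y ∈ R → x * (y : Γ) = (y : Γ) * x) :
    Group.IsNilpotent ↥G := by
  classical
  apply (Group.isNilpotent_of_finite_tfae.out 0 3).mpr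
  intro t ht P
  haveI : Fact t.Prime := ht
  obtain ⟨R, hR⟩ := h t
  -- it suffices that `R` is normal
  suffices hRn : (R : Subgroup ↥G).Normal by
    haveI := Sylow.unique_of_normal R hRn
    have hPR : P = R := Subsingleton.elim P R
    rw [hPR]
    exact hRn
  apply sylow_normal_of_le_normalizer (E.subgroupOf G) hGE R
  -- every Sylow subgroup of `E` normalises `R`
  have key : ∀ (s : ℕ) [Fact s.Prime] (S : Sylow s ↥E) (e : ↥E), e ∈ S →
      (⟨(e : Γ), hEG e.2⟩ : ↥G) ∈ Subgroup.normalizer ((R : Subgroup ↥G) : Set ↥G) := by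
    intro s hs S e heS
    have hall : ∀ (p : ℕ) (_hp : Fact p.Prime) (P : Sylow p ↥E), (↑P : Subgroup ↥E).Normal :=
      ((Group.isNilpotent_of_finite_tfae (G := ↥E)).out 0 3).mp hE
    have hSn : (S : Subgroup ↥E).Normal := hall s hs S
    haveI hSc : (S : Subgroup ↥E).Characteristic := Sylow.characteristic_of_normal S hSn
    have hQn : ((S : Subgroup ↥E).map E.subtype).Normal :=
      ConjAct.normal_of_characteristic_of_normal
    have hQE : (S : Subgroup ↥E).map E.subtype ≤ E := Subgroup.map_subtype_le _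
    have hQs : IsPGroup s ↥((S : Subgroup ↥E).map E.subtype) := S.isPGroup'.map _
    have heQ : (e : Γ) ∈ (S : Subgroup ↥E).map E.subtype :=
      Subgroup.mem_map.2 ⟨e, heS, rfl⟩
    by_cases hst : s = t
    · subst hst
      -- `Q.subgroupOf G` is a normal `s`-subgroup of `G`, hence inside `R`
      haveI : (((S : Subgroup ↥E).map E.subtype).subgroupOf G).Normal := hQn.subgroupOf G
      have hp : IsPGroup s ↥(((S : Subgroup ↥E).map E.subtype).subgroupOf G) :=
        hQs.comap_subtype
      have hle := hp.le_sylow_of_normal R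
      apply Subgroup.le_normalizer
      apply hle
      rw [Subgroup.mem_subgroupOf]
      exact heQ
    · apply Subgroup.centralizer_le_normalizer
      rw [Subgroup.mem_centralizer_iff]
      intro y hy
      apply Subtype.ext
      have h1 := hR s hs.out hst _ hQn hQE hQs (e : Γ) heQ y hy
      simp only [Subgroup.coe_mul]
      exact h1.symm
  -- hence all of `E` does
  have htop : ((Subgroup.normalizer ((R : Subgroup ↥G) : Set ↥G)).map G.subtype).subgroupOf E = ⊤ := by
    apply fpqo_nc_eq_top_of_sylow_le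
    intro s hs
    refine ⟨default, ?_⟩
    intro e he
    rw [Subgroup.mem_subgroupOf]
    exact Subgroup.mem_map.2 ⟨_, key s default e he, rfl⟩
  intro g hg
  rw [Subgroup.mem_subgroupOf] at hg
  have h1 : (⟨(g : Γ), hg⟩ : ↥E) ∈
      ((Subgroup.normalizer ((R : Subgroup ↥G) : Set ↥G)).map G.subtype).subgroupOf E := by
    rw [htop]; exact Subgroup.mem_top _
  rw [Subgroup.mem_subgroupOf] at h1
  obtain ⟨n, hn, hng⟩ := Subgroup.mem_map.1 h1
  have : n = g := Subtype.ext hng
  rw [← this]
  exact hn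

end Cfsg.Agent.Helper24.FPQO
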