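import Mathlib
import Cfsg.Agent.Lib.FPQO.FPQODefs
import Cfsg.Agent.Lib.FPQO.FPQOLAPP
import Cfsg.Agent.Lib.FPQO.FPQONC
import Cfsg.Agent.S0023

/-! S4306 OUTER (helper24): Theorem N.  In a faithful (on `G`) representation in characteristic `r`
in which `A` fixes no non-zero vector, and with no non-trivial normal `r`-subgroup of `Γ` inside
`G`, a nilpotent-by-nilpotent `G` is nilpotent. -/

set_option autoImplicit false
set_option linter.unusedSectionVars false

namespace Cfsg.Agent.Helper24.FPQO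

universe u

variable {Γ : Type u} [Group Γ]

open Cfsg.Agent.Helper8.FrobLin

theorem thmN [Finite Γ] {G A : Subgroup Γ} {p q : ℕ} (cfg : Cfg G A p q)
    (E : Subgroup Γ) [hEn : E.Normal] (hEG : E ≤ G) (hE : Group.IsNilpotent ↥E)
    (hGE : Group.IsNilpotent (↥G ⧸ E.subgroupOf G))
    {k : Type*} [Field k] [IsAlgClosed k] (r : ℕ) [Fact r.Prime] [CharP k r] (hrp : r ≠ p)
    (hrq : r ≠ q) {W : Type*} [AddCommGroup W] [Module k W] [FiniteDimensional k W]
    (ρ : Representation k Γ W) (hinj : ∀ g ∈ G, ρ g = 1 → g = 1) (hfix : fixedBy ρ A = ⊥)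
    (hr3 : ∀ N : Subgroup Γ, N.Normal → N ≤ G → IsPGroup r ↥N → N = ⊥) :
    Group.IsNilpotent ↥G := by
  haveI := cfg.normal
  have hAG : A ≤ Subgroup.normalizer (G : Set Γ) := by
    rw [Subgroup.normalizer_eq_top]
    exact le_top
  have hcop : (Nat.card ↥A).Coprime (Nat.card ↥G) := by
    rw [cfg.cardA]
    exact cfg.cop.symm
  apply nilpotent_of_sylow_centralize G E hEG hE hGE
  intro t ht
  obtain ⟨R, hR⟩ := Cfsg.Agent.S0023.result A G hAG hcop (Or.inr cfg.sol) t
  refine ⟨R, ?_⟩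
  intro s hs hst Q hQn hQE hQs x hx y hy
  by_cases hsr : s = r
  · subst hsr
    have hQ := hr3 Q hQn (hQE.trans hEG) hQs
    rw [hQ, Subgroup.mem_bot] at hx
    rw [hx, one_mul, mul_one]
  · have hRt : IsPGroup t ↥((R : Subgroup ↥G).map G.subtype) :=
      R.isPGroup'.map G.subtype
    exact comm_of_thmL cfg r hrp hrq ρ hinj hfix s t hs ht.out hst hsr Q
      ((R : Subgroup ↥G).map G.subtype) hQn (hQE.trans hEG) hQs (Subgroup.map_subtype_le _) hRt hR
      x hx (y : Γ) (Subgroup.mem_map_of_mem G.subtype hy)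

end Cfsg.Agent.Helper24.FPQO
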