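import Mathlib
import Cfsg.Agent.Lib.FPQO.FPQODefs
import Cfsg.Agent.S0022
/-! S4306 OUTER piece FPQO-QUOT (helper24 design; see plans/S4306_outer_plan.md): the configuration
passes to quotients by normal subgroups of `Γ` inside `G`. -/

set_option autoImplicit false
set_option linter.unusedSectionVars false

namespace Cfsg.Agent.Helper24.FPQO

universe u

variable {Γ : Type u} [Group Γ]

/-- an element of `A ⊓ G` is trivial when the orders are coprime -/
theorem fpqo_quot_eq_one [Finite Γ] {G A : Subgroup Γ} {p q : ℕ} (cfg : Cfg G A p q) {x : Γ}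
    (hxA : x ∈ A) (hxG : x ∈ G) : x = 1 := by
  have h1 : orderOf x ∣ Nat.card ↥A := Subgroup.orderOf_dvd_natCard A hxA
  have h2 : orderOf x ∣ Nat.card ↥G := Subgroup.orderOf_dvd_natCard G hxG
  rw [cfg.cardA] at h1
  have h3 : orderOf x = 1 := Nat.eq_one_of_dvd_coprimes cfg.cop h2 h1
  exact orderOf_eq_one_iff.mp h3

/-- the quotient map restricted to a subgroup, as a surjection onto the image -/
theorem fpqo_quot_card_map [Finite Γ] (A N : Subgroup Γ) [N.Normal]
    (h : ∀ x ∈ A, x ∈ N → x = 1) :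
    Nat.card ↥(A.map (QuotientGroup.mk' N)) = Nat.card ↥A := by
  have hsurj : Function.Surjective ((QuotientGroup.mk' N).subgroupMap A) :=
    MonoidHom.subgroupMap_surjective _ _
  have hinj : Function.Injective ((QuotientGroup.mk' N).subgroupMap A) := by
    rw [injective_iff_map_eq_one]
    intro a ha
    have h1 : (QuotientGroup.mk' N) (a : Γ) = 1 := by
      have := congrArg Subtype.val ha
      simpa using this
    have h2 : (a : Γ) ∈ N := by
      rw [QuotientGroup.mk'_apply, QuotientGroup.eq_one_iff] at h1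
      exact h1
    exact Subtype.ext (h _ a.2 h2)
  exact (Nat.card_congr (Equiv.ofBijective _ ⟨hinj, hsurj⟩)).symm

/-- the configuration passes to the quotient by a normal subgroup of `Γ` inside `G`
(`C_{G/N}(A) = 1` by coprime lifting, `Cfsg.Agent.S0022.result`) -/
theorem cfg_quot [Finite Γ] {G A : Subgroup Γ} {p q : ℕ} (cfg : Cfg G A p q) (N : Subgroup Γ)
    [N.Normal] (hNG : N ≤ G) :
    Cfg (G.map (QuotientGroup.mk' N)) (A.map (QuotientGroup.mk' N)) p q := by
  have hGn : G.Normal := cfg.normal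
  have hAN : ∀ x ∈ A, x ∈ N → x = 1 := fun x hxA hxN => fpqo_quot_eq_one cfg hxA (hNG hxN)
  refine ⟨cfg.hp, cfg.hq, cfg.hpq, ?_, ?_, ?_, ?_, ?_, ?_⟩
  · exact Subgroup.Normal.map cfg.normal _ (QuotientGroup.mk'_surjective N)
  · have := cfg.sol
    exact Group.isSolvable_of_surjective (MonoidHom.subgroupMap_surjective (QuotientGroup.mk' N) G)
  · rw [fpqo_quot_card_map A N hAN, cfg.cardA]
  · intro hcomm
    apply cfg.nonab
    intro a ha b hb
    have h1 := hcomm _ (Subgroup.mem_map_of_mem (QuotientGroup.mk' N) ha) _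
      (Subgroup.mem_map_of_mem (QuotientGroup.mk' N) hb)
    rw [← map_mul, ← map_mul, QuotientGroup.mk'_apply, QuotientGroup.mk'_apply,
      QuotientGroup.eq] at h1
    have h2 : (a * b)⁻¹ * (b * a) ∈ A := A.mul_mem (A.inv_mem (A.mul_mem ha hb)) (A.mul_mem hb ha)
    have h3 := hAN _ h2 h1
    calc a * b = (a * b) * ((a * b)⁻¹ * (b * a)) := by rw [h3, mul_one]
      _ = b * a := by group
  · have hdvd : Nat.card ↥(G.map (QuotientGroup.mk' N)) ∣ Nat.card ↥G := Subgroup.card_map_dvd _ _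
    exact Nat.Coprime.coprime_dvd_left hdvd cfg.cop
  · intro g' hg' hcent
    obtain ⟨g, hg, rfl⟩ := Subgroup.mem_map.mp hg'
    have hfix : ∀ a ∈ A, a * g * a⁻¹ * g⁻¹ ∈ N := by
      intro a ha
      have h1 := hcent _ (Subgroup.mem_map_of_mem (QuotientGroup.mk' N) ha)
      rw [← QuotientGroup.eq_one_iff]
      have h2 : ((a * g * a⁻¹ * g⁻¹ : Γ) : Γ ⧸ N) =
          (QuotientGroup.mk' N a * QuotientGroup.mk' N g) *
            (QuotientGroup.mk' N a)⁻¹ * (QuotientGroup.mk' N g)⁻¹ := by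
        simp
      rw [h2, h1]
      group
    have hAG : A ≤ Subgroup.normalizer (G : Set Γ) := by
      rw [Subgroup.normalizer_eq_top]; exact le_top
    have hGN : G ≤ Subgroup.normalizer (N : Set Γ) := by
      rw [Subgroup.normalizer_eq_top]; exact le_top
    have hAN' : A ≤ Subgroup.normalizer (N : Set Γ) := by
      rw [Subgroup.normalizer_eq_top]; exact le_top
    have hcop : (Nat.card ↥A).Coprime (Nat.card ↥G) := by
      rw [cfg.cardA]; exact cfg.cop.symm
    obtain ⟨c, hc, hcN⟩ := Cfsg.Agent.S0022.result A G hAG hcop (Or.inr cfg.sol) N hNG hGN hAN'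
      g hg hfix
    rw [Subgroup.mem_inf] at hc
    have hc1 : c = 1 := by
      apply cfg.fpf c hc.1
      intro a ha
      exact (Subgroup.mem_centralizer_iff.mp hc.2 a ha)
    rw [hc1, mul_one] at hcN
    have hgN : g ∈ N := by
      have := N.inv_mem hcN
      rwa [inv_inv] at this
    rw [QuotientGroup.mk'_apply, QuotientGroup.eq_one_iff]
    exact hgN

theorem card_map_lt [Finite Γ] (G N : Subgroup Γ) [N.Normal] (hNG : N ≤ G) (hN : N ≠ ⊥) :
    Nat.card ↥(G.map (QuotientGroup.mk' N)) < Nat.card ↥G := by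
  set φ : ↥G →* ↥(G.map (QuotientGroup.mk' N)) := (QuotientGroup.mk' N).subgroupMap G with hφ
  have hsurj : Function.Surjective φ := MonoidHom.subgroupMap_surjective _ _
  have h1 : Nat.card ↥G = Nat.card (↥G ⧸ φ.ker) * Nat.card ↥φ.ker :=
    Subgroup.card_eq_card_quotient_mul_card_subgroup φ.ker
  have h2 : Nat.card (↥G ⧸ φ.ker) = Nat.card ↥(G.map (QuotientGroup.mk' N)) :=
    Nat.card_congr (QuotientGroup.quotientKerEquivOfSurjective φ hsurj).toEquiv
  obtain ⟨n, hn, hn1⟩ : ∃ n : Γ, n ∈ N ∧ n ≠ 1 := by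
    obtain ⟨x, hx⟩ := (Subgroup.ne_bot_iff_exists_ne_one (H := N)).mp hN
    exact ⟨(x : Γ), x.2, fun h => hx (Subtype.ext h)⟩
  have hker : (⟨n, hNG hn⟩ : ↥G) ∈ φ.ker := by
    rw [MonoidHom.mem_ker]
    apply Subtype.ext
    show QuotientGroup.mk' N n = 1
    rw [QuotientGroup.mk'_apply, QuotientGroup.eq_one_iff]
    exact hn
  have hkne : φ.ker ≠ ⊥ := by
    intro hbot
    rw [hbot, Subgroup.mem_bot] at hker
    exact hn1 (congrArg Subtype.val hker)
  have h3 : 1 < Nat.card ↥φ.ker := by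
    rw [Subgroup.one_lt_card_iff_ne_bot]
    exact hkne
  have h4 : 0 < Nat.card ↥(G.map (QuotientGroup.mk' N)) := Nat.card_pos
  rw [h1, h2]
  nlinarith

end Cfsg.Agent.Helper24.FPQO
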