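import Mathlib
import Cfsg.Agent.Lib.FPQO.FPQODefs

/-! S4306 OUTER piece FPQO-R3 (helper24 design; see plans/S4306_outer_plan.md).  Proved by helper8:
the `r`-group `N ≤ Γ ⧸ C` acts on `V` by conjugation (through `QuotientGroup.lift`), the fixed-point
congruence for `r`-groups gives a non-trivial fixed vector, and minimality of `V` finishes. -/

set_option autoImplicit false
set_option linter.unusedSectionVars false

namespace Cfsg.Agent.Helper24.FPQO

universe u

variable {Γ : Type u} [Group Γ]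

/-- `V` a minimal normal subgroup of `Γ`, an elementary abelian `r`-group inside `G ⊴ Γ`,
`C = C_G(V)`: the quotient `Γ / C` has no non-trivial normal `r`-subgroup inside `G / C`. -/
theorem no_normal_r_subgroup [Finite Γ] (G V C : Subgroup Γ) [G.Normal] [V.Normal] [C.Normal]
    (r : ℕ) [Fact r.Prime] (hVG : V ≤ G) (hV : V ≠ ⊥) (hVr : ∀ x ∈ V, x ^ r = 1)
    (hVc : ∀ x ∈ V, ∀ y ∈ V, x * y = y * x)
    (hmin : ∀ M : Subgroup Γ, M.Normal → M ≤ V → M = ⊥ ∨ M = V)
    (hC : C = G ⊓ Subgroup.centralizer (V : Set Γ))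
    (N : Subgroup (Γ ⧸ C)) (hNn : N.Normal) (hNG : N ≤ G.map (QuotientGroup.mk' C))
    (hNr : IsPGroup r ↥N) : N = ⊥ := by
  classical
  let φ : Γ →* MulAut ↥V := MulAut.conjNormal
  have hφ : ∀ (g : Γ) (v : ↥V), ((φ g v : ↥V) : Γ) = g * v * g⁻¹ := fun g v =>
    MulAut.conjNormal_apply g v
  have hCker : C ≤ φ.ker := by
    intro c hc
    rw [MonoidHom.mem_ker]
    ext v
    rw [hC] at hc
    have h1 : c ∈ Subgroup.centralizer (V : Set Γ) := hc.2
    rw [Subgroup.mem_centralizer_iff] at h1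
    have h2 := h1 v v.2
    rw [hφ]
    show c * (v : Γ) * c⁻¹ = v
    rw [← h2]; group
  let f : ↥N →* MulAut ↥V := (QuotientGroup.lift C φ hCker).comp N.subtype
  let _ : MulAction ↥N ↥V := MulAction.compHom ↥V f
  have hsmul : ∀ (n : ↥N) (v : ↥V), n • v = f n v := fun n v => rfl
  have hVp : IsPGroup r ↥V := fun v => ⟨1, by
    apply Subtype.ext
    simpa using hVr v v.2⟩
  have hdvd : r ∣ Nat.card ↥V :=
    hVp.card_eq_or_dvd.resolve_left (by rw [Subgroup.card_eq_one]; exact hV)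
  have h1 : (1 : ↥V) ∈ MulAction.fixedPoints ↥N ↥V := fun n => by
    rw [hsmul]; exact map_one _
  obtain ⟨b, hb, hne⟩ := hNr.exists_fixed_point_of_prime_dvd_card_of_fixed_point ↥V hdvd h1
  -- the preimage of `N`
  set N₀ : Subgroup Γ := N.comap (QuotientGroup.mk' C) with hN₀
  have : N₀.Normal := hNn.comap _
  have hN₀G : N₀ ≤ G := by
    intro x hx
    have hx' : QuotientGroup.mk' C x ∈ N := hx
    obtain ⟨g, hg, hgx⟩ := hNG hx'
    have : g⁻¹ * x ∈ C := by
      rw [← QuotientGroup.eq]; exact hgx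
    have h3 : g⁻¹ * x ∈ G := by rw [hC] at this; exact this.1
    have := G.mul_mem hg h3
    simpa using this
  have hbN : ∀ x ∈ N₀, x * (b : Γ) * x⁻¹ = b := by
    intro x hx
    have hx' : QuotientGroup.mk' C x ∈ N := hx
    have h4 := hb ⟨QuotientGroup.mk' C x, hx'⟩
    rw [hsmul] at h4
    have h5 : f ⟨QuotientGroup.mk' C x, hx'⟩ = φ x := rfl
    rw [h5] at h4
    rw [← hφ, h4]
  -- the normal subgroup `V ⊓ C_Γ(N₀)`
  have hM := hmin (V ⊓ Subgroup.centralizer (N₀ : Set Γ)) inferInstance inf_le_left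
  have hbM : (b : Γ) ∈ V ⊓ Subgroup.centralizer (N₀ : Set Γ) := by
    refine ⟨b.2, ?_⟩
    show (b : Γ) ∈ Subgroup.centralizer (N₀ : Set Γ)
    rw [Subgroup.mem_centralizer_iff]
    intro x hx
    have := hbN x hx
    calc x * (b : Γ) = x * b * x⁻¹ * x := by group
      _ = b * x := by rw [this]
  have hMV : V ⊓ Subgroup.centralizer (N₀ : Set Γ) = V := by
    rcases hM with h | h
    · exfalso
      rw [h, Subgroup.mem_bot] at hbM
      exact hne (Subtype.ext hbM.symm)
    · exact h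
  have hN₀C : N₀ ≤ C := by
    intro x hx
    rw [hC]
    refine ⟨hN₀G hx, ?_⟩
    show x ∈ Subgroup.centralizer (V : Set Γ)
    rw [Subgroup.mem_centralizer_iff]
    intro v hv
    have hv' : v ∈ V ⊓ Subgroup.centralizer (N₀ : Set Γ) := by rw [hMV]; exact hv
    have : v ∈ Subgroup.centralizer (N₀ : Set Γ) := hv'.2
    rw [Subgroup.mem_centralizer_iff] at this
    exact (this x hx).symm
  rw [eq_bot_iff]
  intro n hn
  obtain ⟨x, rfl⟩ := QuotientGroup.mk'_surjective C n
  have hx : x ∈ N₀ := hn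
  rw [Subgroup.mem_bot]
  exact (QuotientGroup.eq_one_iff x).mpr (hN₀C hx)

end Cfsg.Agent.Helper24.FPQO
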