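import Mathlib
import Cfsg.Agent.Lib.FPQO.FPQODefs
import Cfsg.Agent.Lib.Helper8.SecRep9
/-! S4306 OUTER piece FPQO-T (helper24 design; see plans/S4306_outer_plan.md). -/

set_option autoImplicit false
set_option linter.unusedSectionVars false

namespace Cfsg.Agent.Helper24.FPQO

universe u

variable {Γ : Type u} [Group Γ]

open Cfsg.Agent.Helper8.FrobLin Cfsg.Agent.Helper8.SecRep

open scoped TensorProduct

/-- linearisation: `V ⊴ Γ` elementary abelian `r`-group, `C ⊴ Γ` centralising `V`, `A ≤ Γ` an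
`r'`-group with `C_V(A) = 1`: a finite-dimensional representation of `Γ / C` over the algebraic
closure of `𝔽_r` whose kernel is `C_Γ(V) / C` and in which `A` fixes no non-zero vector
(helper8's `linRep`, `linRep_eq_one_iff`, `linRep_fixed` with `Γ' = ⊤`, then `QuotientGroup.lift`). -/
theorem exists_rep [Finite Γ] (V A C : Subgroup Γ) [V.Normal] [C.Normal] (r : ℕ) [Fact r.Prime]
    (hVc : ∀ x ∈ V, ∀ y ∈ V, x * y = y * x) (hVr : ∀ x ∈ V, x ^ r = 1)
    (hrA : ¬ r ∣ Nat.card ↥A) (hVA : ∀ v ∈ V, (∀ a ∈ A, a * v = v * a) → v = 1)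
    (hCV : C ≤ Subgroup.centralizer (V : Set Γ)) :
    ∃ (W : Type u) (_ : AddCommGroup W) (_ : Module (LK r) W) (_ : FiniteDimensional (LK r) W)
      (ρ : Representation (LK r) (Γ ⧸ C) W),
      (∀ g : Γ, ρ (QuotientGroup.mk g) = 1 → g ∈ Subgroup.centralizer (V : Set Γ)) ∧
      fixedBy ρ (A.map (QuotientGroup.mk' C)) = ⊥ := by
  have hΓ : (⊤ : Subgroup Γ) ≤ Subgroup.normalizer (V : Set Γ) := by
    rw [Subgroup.normalizer_eq_top]
  let ρ0 := linRep V ⊤ r hVc hVr hΓ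
  let ρ1 : Γ →* (LK r ⊗[ZMod r] SecW (isSec_bot V r hVc hVr)) →ₗ[LK r]
      (LK r ⊗[ZMod r] SecW (isSec_bot V r hVc hVr)) :=
    ρ0.comp (Subgroup.topEquiv.symm : Γ ≃* ↥(⊤ : Subgroup Γ)).toMonoidHom
  have hker : ∀ g : Γ, ρ1 g = 1 ↔ g ∈ Subgroup.centralizer (V : Set Γ) := by
    intro g
    exact linRep_eq_one_iff V ⊤ r hVc hVr hΓ ⟨g, Subgroup.mem_top g⟩
  have hC : C ≤ ρ1.ker := by
    intro c hc
    rw [MonoidHom.mem_ker]
    exact (hker c).2 (hCV hc)
  let ρ : Representation (LK r) (Γ ⧸ C) (LK r ⊗[ZMod r] SecW (isSec_bot V r hVc hVr)) :=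
    QuotientGroup.lift C ρ1 hC
  refine ⟨LK r ⊗[ZMod r] SecW (isSec_bot V r hVc hVr), inferInstance, inferInstance,
    inferInstance, ρ, ?_, ?_⟩
  · intro g hg
    exact (hker g).1 hg
  · have hfix := linRep_fixed V ⊤ r hVc hVr hΓ A le_top hrA
    have hbot : V ⊓ Subgroup.centralizer (A : Set Γ) = ⊥ := by
      rw [eq_bot_iff]
      intro v hv
      rw [Subgroup.mem_bot]
      apply hVA v hv.1
      intro a ha
      exact (hv.2 a ha)
    rw [hbot, Subgroup.card_bot] at hfix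
    have hr1 : r ≠ 1 := (Fact.out : r.Prime).ne_one
    have hfr : Module.finrank (LK r) (fixedBy ρ0 (A.subgroupOf ⊤)) = 0 := by
      rcases Nat.pow_eq_one.1 hfix with h | h
      · exact absurd h hr1
      · exact h
    have hb : fixedBy ρ0 (A.subgroupOf ⊤) = ⊥ := Submodule.finrank_eq_zero.1 hfr
    rw [eq_bot_iff]
    intro w hw
    rw [← hb, mem_fixedBy]
    rw [mem_fixedBy] at hw
    intro h hh
    rw [Subgroup.mem_subgroupOf] at hh
    have := hw (QuotientGroup.mk (h : Γ)) (Subgroup.mem_map_of_mem _ hh)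
    exact this

end Cfsg.Agent.Helper24.FPQO
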