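import Mathlib
import Cfsg.Agent.Lib.FPQO.FPQODefs

/-! S4306 OUTER piece FPQO-TWO (helper24 design; see plans/S4306_outer_plan.md). -/

set_option autoImplicit false
set_option linter.unusedSectionVars false

namespace Cfsg.Agent.Helper24.FPQO

universe u

variable {Γ : Type u} [Group Γ]

/-- gluing: `V ≤ C ≤ G`, `C` centralises `V`; `G / V` has a nilpotent-by-nilpotent normal series
and `G / C` is nilpotent; then `G` has one (`F = F₁ ∩ C`, `F₁` the preimage of the subgroup for
`G / V`). -/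
theorem concl_of_two [Finite Γ] (G V C : Subgroup Γ) [G.Normal] [V.Normal] [C.Normal]
    (hVC : V ≤ C) (hCG : C ≤ G) (hCV : C ≤ Subgroup.centralizer (V : Set Γ))
    (h1 : Concl (G.map (QuotientGroup.mk' V)))
    (h2 : Group.IsNilpotent ↥(G.map (QuotientGroup.mk' C))) : Concl G := by
  obtain ⟨Fb, hFbn, hFbG, hFbnil, hq⟩ := h1
  have := hFbn
  have : (Fb.comap (QuotientGroup.mk' V)).Normal := Subgroup.Normal.comap hFbn _
  refine ⟨Fb.comap (QuotientGroup.mk' V) ⊓ C, inferInstance, inf_le_right.trans hCG, ?_, ?_⟩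
  · -- nilpotent
    let f : ↥(Fb.comap (QuotientGroup.mk' V) ⊓ C) →* ↥Fb :=
      ((QuotientGroup.mk' V).comp (Subgroup.subtype _)).codRestrict Fb (fun x => x.2.1)
    apply Subgroup.isNilpotent_of_ker_le_center f
    intro x hx
    rw [Subgroup.mem_center_iff]
    intro y
    have hxV : (x : Γ) ∈ V := by
      have h1 : f x = 1 := hx
      have h2 : ((f x : ↥Fb) : Γ ⧸ V) = 1 := by rw [h1]; rfl
      have h3 : ((x : Γ) : Γ ⧸ V) = 1 := h2
      exact (QuotientGroup.eq_one_iff _).1 h3
    have hyC : (y : Γ) ∈ Subgroup.centralizer (V : Set Γ) := hCV y.2.2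
    have := hyC (x : Γ) hxV
    apply Subtype.ext
    simp only [Subgroup.coe_mul]
    exact this.symm
  · -- quotient
    have := h2
    have := hq
    let G1 : Subgroup (Γ ⧸ V) := G.map (QuotientGroup.mk' V)
    let G2 : Subgroup (Γ ⧸ C) := G.map (QuotientGroup.mk' C)
    let φ1 : ↥G →* (↥G1 ⧸ Fb.subgroupOf G1) :=
      (QuotientGroup.mk' (Fb.subgroupOf G1)).comp
        (((QuotientGroup.mk' V).comp G.subtype).codRestrict G1
          (fun g => Subgroup.mem_map_of_mem _ g.2))
    let φ2 : ↥G →* ↥G2 :=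
      ((QuotientGroup.mk' C).comp G.subtype).codRestrict G2
          (fun g => Subgroup.mem_map_of_mem _ g.2)
    refine isNilpotent_quotient_of_hom _ (φ1.prod φ2) ?_
    intro g hg
    rw [MonoidHom.mem_ker] at hg
    have hg1 : φ1 g = 1 := congrArg Prod.fst hg
    have hg2 : φ2 g = 1 := congrArg Prod.snd hg
    rw [Subgroup.mem_subgroupOf]
    refine ⟨?_, ?_⟩
    · have := (QuotientGroup.eq_one_iff _).1 hg1
      rw [Subgroup.mem_subgroupOf] at this
      exact this
    · have h3 : ((φ2 g : ↥G2) : Γ ⧸ C) = 1 := by rw [hg2]; rfl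
      have h4 : ((g : Γ) : Γ ⧸ C) = 1 := h3
      exact (QuotientGroup.eq_one_iff _).1 h4

end Cfsg.Agent.Helper24.FPQO
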