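import Mathlib
import Cfsg.Agent.Lib.FPQO.FPQODefs
import Cfsg.Agent.Lib.FPQO.FPQOQUOT
import Cfsg.Agent.Lib.FPQO.FPQOMINV
import Cfsg.Agent.Lib.FPQO.FPQOR3
import Cfsg.Agent.Lib.FPQO.FPQOT
import Cfsg.Agent.Lib.FPQO.FPQON
import Cfsg.Agent.Lib.FPQO.FPQOTWO

/-! S4306 OUTER (helper24): the induction on `|G|`. -/

set_option autoImplicit false
set_option linter.unusedSectionVars false

namespace Cfsg.Agent.Helper24.FPQO

universe u

open Cfsg.Agent.Helper8.FrobLin Cfsg.Agent.Helper8.SecRep

theorem outer_main_aux (p q : ℕ) : ∀ n : ℕ, ∀ (Γ : Type u) [Group Γ] [Finite Γ]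
    (G A : Subgroup Γ), Nat.card ↥G = n → Cfg G A p q → Concl G := by
  intro n
  induction n using Nat.strong_induction_on with
  | _ n ih =>
    intro Γ _ _ G A hn cfg
    haveI hGn : G.Normal := cfg.normal
    by_cases hG : G = ⊥
    · refine ⟨⊥, inferInstance, bot_le, inferInstance, ?_⟩
      subst hG
      haveI : Subsingleton ↥(⊥ : Subgroup Γ) := inferInstance
      haveI : Subsingleton (↥(⊥ : Subgroup Γ) ⧸ (⊥ : Subgroup Γ).subgroupOf ⊥) :=
        Quotient.instSubsingletonQuotient _
      infer_instance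
    · obtain ⟨V, r, hr, hVn, hVG, hV0, hVc, hVr, hVmin⟩ := exists_min_normal_elem G cfg.sol hG
      haveI := hVn
      haveI : Fact r.Prime := ⟨hr⟩
      -- the centraliser of `V` in `G`
      have hCn : (G ⊓ Subgroup.centralizer (V : Set Γ)).Normal := inferInstance
      obtain ⟨C, hC⟩ : ∃ C : Subgroup Γ, C = G ⊓ Subgroup.centralizer (V : Set Γ) := ⟨_, rfl⟩
      haveI : C.Normal := by rw [hC]; exact hCn
      have hCG : C ≤ G := by rw [hC]; exact inf_le_left
      have hCV : C ≤ Subgroup.centralizer (V : Set Γ) := by rw [hC]; exact inf_le_right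
      have hVC : V ≤ C := by
        rw [hC]
        refine le_inf hVG ?_
        intro x hx
        rw [Subgroup.mem_centralizer_iff]
        intro y hy
        exact hVc y hy x hx
      have hC0 : C ≠ ⊥ := by
        intro h
        apply hV0
        rw [h] at hVC
        exact le_bot_iff.mp hVC
      -- induction
      have h1 : Concl (G.map (QuotientGroup.mk' V)) :=
        ih _ (by rw [← hn]; exact card_map_lt G V hVG hV0) (Γ ⧸ V) _ _ rfl (cfg_quot cfg V hVG)
      have cfg2 := cfg_quot cfg C hCG
      have h2c : Concl (G.map (QuotientGroup.mk' C)) :=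
        ih _ (by rw [← hn]; exact card_map_lt G C hCG hC0) (Γ ⧸ C) _ _ rfl cfg2
      obtain ⟨E, hEn, hEG, hEnil, hGE⟩ := h2c
      haveI := hEn
      -- `r` divides `|G|`
      have hrG : r ∣ Nat.card ↥G := by
        obtain ⟨x, hx, hx1⟩ : ∃ x ∈ V, x ≠ 1 := by
          by_contra hcon
          push_neg at hcon
          apply hV0
          rw [Subgroup.eq_bot_iff_forall]
          exact hcon
        have ho : orderOf x = r := orderOf_eq_prime (hVr x hx) hx1
        have h2 : orderOf (⟨x, hVG hx⟩ : ↥G) = r := by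
          rw [← ho]
          exact (Subgroup.orderOf_mk x (hVG hx))
        rw [← h2]
        exact orderOf_dvd_natCard _
      have hrpq : ¬ r ∣ p * q := by
        intro hd
        have h3 : r ∣ Nat.gcd (Nat.card ↥G) (p * q) := Nat.dvd_gcd hrG hd
        rw [Nat.Coprime.gcd_eq_one cfg.cop] at h3
        exact hr.one_lt.ne' (Nat.dvd_one.mp h3)
      have hrp : r ≠ p := by
        intro h
        apply hrpq
        rw [h]
        exact dvd_mul_right p q
      have hrq : r ≠ q := by
        intro h
        apply hrpq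
        rw [h]
        exact dvd_mul_left q p
      have hrA : ¬ r ∣ Nat.card ↥A := by
        rw [cfg.cardA]
        exact hrpq
      -- the representation
      obtain ⟨W, i1, i2, i3, ρ, hρ1, hρ2⟩ := exists_rep V A C r hVc hVr hrA
        (fun v hv h => cfg.fpf v (hVG hv) h) hCV
      have hinj : ∀ g ∈ G.map (QuotientGroup.mk' C), ρ g = 1 → g = 1 := by
        rintro _ ⟨g, hg, rfl⟩ h
        have h3 := hρ1 g h
        have h4 : g ∈ C := by
          rw [hC]
          exact ⟨hg, h3⟩
        exact (QuotientGroup.eq_one_iff g).mpr h4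
      have hr3 : ∀ N : Subgroup (Γ ⧸ C), N.Normal → N ≤ G.map (QuotientGroup.mk' C) →
          IsPGroup r ↥N → N = ⊥ := by
        intro N hNn hNG hNr
        exact no_normal_r_subgroup G V C r hVG hV0 hVr hVc hVmin hC N hNn hNG hNr
      have h2 : Group.IsNilpotent ↥(G.map (QuotientGroup.mk' C)) :=
        thmN cfg2 E hEG hEnil hGE r hrp hrq ρ hinj hρ2 hr3
      exact concl_of_two G V C hVC hCG hCV h1 h2

/-- **OUTER main theorem.** -/
theorem outer_main {Γ : Type u} [Group Γ] [Finite Γ] {G A : Subgroup Γ} {p q : ℕ}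
    (cfg : Cfg G A p q) : Concl G :=
  outer_main_aux p q _ Γ G A rfl cfg

end Cfsg.Agent.Helper24.FPQO
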