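import Mathlib
import Cfsg.Agent.Lib.FPQO.FPQODefs
import Cfsg.Agent.Lib.FPQO.FPQOMain

/-! S4306 OUTER piece FPQO-FIN (helper24 design; see plans/S4306_outer_plan.md).  Proved by helper28.

From the subgroup form (`outer_main`, applied in `Γ = G ⋊[MulDistribMulAction.toMulAut A G] A` with
`G₀ = range inl`, `A₀ = range inr`) to the action form of the statement S4306. -/

set_option autoImplicit false
set_option linter.unusedSectionVars false

namespace Cfsg.Agent.Helper24.FPQO

theorem result_of_main {G A : Type*} [Group G] [Finite G] [Group.IsSolvable G]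
    [Group A] [Finite A] [MulDistribMulAction A G] (p q : ℕ) (hp : p.Prime) (hq : q.Prime)
    (hpq : p ≠ q) (hA : Nat.card A = p * q) (hAna : ¬ IsMulCommutative A)
    (hcop : (Nat.card G).Coprime (p * q))
    (hfpf : ∀ g : G, (∀ a : A, a • g = g) → g = 1) :
    ∃ F : Subgroup G, ∃ hF : F.Normal,
      Group.IsNilpotent ↥F ∧ Group.IsNilpotent (G ⧸ F) := by
  haveI hfinΓ : Finite (G ⋊[MulDistribMulAction.toMulAut A G] A) :=
    Finite.of_equiv _ SemidirectProduct.equivProd.symm
  have cfg : Cfg (SemidirectProduct.inl : G →* G ⋊[MulDistribMulAction.toMulAut A G] A).range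
      (SemidirectProduct.inr : A →* G ⋊[MulDistribMulAction.toMulAut A G] A).range p q := by
    refine ⟨hp, hq, hpq, ?_, ?_, ?_, ?_, ?_, ?_⟩
    · rw [SemidirectProduct.range_inl_eq_ker_rightHom]
      exact MonoidHom.normal_ker _
    · exact solvable_of_surjective
        (MonoidHom.ofInjective (SemidirectProduct.inl_injective
          (φ := MulDistribMulAction.toMulAut A G))).surjective
    · rw [← Nat.card_congr (MonoidHom.ofInjective (SemidirectProduct.inr_injective
        (φ := MulDistribMulAction.toMulAut A G))).toEquiv, hA]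
    · intro hcomm
      apply hAna
      refine ⟨⟨fun a b => ?_⟩⟩
      apply SemidirectProduct.inr_injective (φ := MulDistribMulAction.toMulAut A G)
      rw [map_mul, map_mul]
      exact hcomm _ ⟨a, rfl⟩ _ ⟨b, rfl⟩
    · rw [← Nat.card_congr (MonoidHom.ofInjective (SemidirectProduct.inl_injective
        (φ := MulDistribMulAction.toMulAut A G))).toEquiv]
      exact hcop
    · rintro _ ⟨g, rfl⟩ hfix
      have hg : g = 1 := by
        apply hfpf
        intro a
        apply SemidirectProduct.inl_injective (φ := MulDistribMulAction.toMulAut A G)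
        have h1 := SemidirectProduct.inl_aut (φ := MulDistribMulAction.toMulAut A G) a g
        have h2 := hfix (SemidirectProduct.inr a) ⟨a, rfl⟩
        have h3 : (MulDistribMulAction.toMulAut A G a) g = a • g := rfl
        rw [h3] at h1
        rw [h1, h2, map_inv]
        group
      rw [hg, map_one]
  obtain ⟨F, hF, hFG, hFnil, hq'⟩ := outer_main cfg
  haveI := hF
  haveI := hFnil
  refine ⟨F.comap (SemidirectProduct.inl : G →* G ⋊[MulDistribMulAction.toMulAut A G] A),
    Subgroup.Normal.comap hF _, ?_, ?_⟩
  · apply isNilpotent_of_injective_hom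
      ((SemidirectProduct.inl : G →* G ⋊[MulDistribMulAction.toMulAut A G] A).subgroupComap F)
    intro x y hxy
    apply Subtype.ext
    apply SemidirectProduct.inl_injective (φ := MulDistribMulAction.toMulAut A G)
    exact congrArg Subtype.val hxy
  · haveI hFn' : (F.comap (SemidirectProduct.inl : G →* G ⋊[MulDistribMulAction.toMulAut A G] A)).Normal :=
      Subgroup.Normal.comap hF _
    haveI := hq'
    apply isNilpotent_quotient_of_hom _
      ((QuotientGroup.mk' (F.subgroupOf
        (SemidirectProduct.inl : G →* G ⋊[MulDistribMulAction.toMulAut A G] A).range)).comp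
        (SemidirectProduct.inl : G →* G ⋊[MulDistribMulAction.toMulAut A G] A).rangeRestrict)
    intro g hg
    rw [MonoidHom.mem_ker, MonoidHom.comp_apply, QuotientGroup.mk'_apply,
      QuotientGroup.eq_one_iff, Subgroup.mem_subgroupOf] at hg
    exact hg

end Cfsg.Agent.Helper24.FPQO
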